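import Groth.Agent.Ega2.LACRB
import Groth.Agent.EtpbcA.LAUnit
import Groth.Agent.Etrest.HpullAcyc
import Groth.Agent.Etcore.LCPull
import Groth.Agent.Etcore.NormalAcyclic
import Groth.Agent.Lefpen.H416.NormalBase

/-!
# Invariance of cohomology along base changes with trivial direct images

* `inv_of_bc`: `g : T ⟶ S`, `f : V ⟶ S`, `h : V' ⟶ V` the base change of `g`; if `F ⟶ g_* g^* F` is an
  isomorphism, `R^q g_* g^* F = 0` for `q > 0` and the formation of `R^q g_* g^* F` commutes with the base
  change `f`, then all pullback maps `H^q(V, f^* F) → H^q(V', h^* f^* F)` are bijective.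
* `inv_generic_of_bc`: the case of the generic point of a normal integral scheme with separably closed
  function field and of a constant sheaf.
-/

set_option autoImplicit false
universe u
open CategoryTheory CategoryTheory.Limits AlgebraicGeometry Opposite

namespace Groth.Agent.Lefpen.H584.InvBC

open EtCoh Groth.Agent.Ega2.LACRB Groth.Agent.EtpbcA.LA

variable {S T V V' : Scheme.{u}}

/-- Base change with trivial direct images. -/
theorem inv_of_bc (f : V ⟶ S) (g : T ⟶ S) (h : V' ⟶ V) (e : V' ⟶ T) (w : e ≫ g = h ≫ f) (F : Ab S)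
    (hu : IsIso ((pullPushAdj g).unit.app F))
    (hR : ∀ q : ℕ, 0 < q → IsZero ((Rpush g q).obj ((pull g).obj F)))
    (hb : ∀ q : ℕ, 0 < q → Nonempty ((pull f).obj ((Rpush g q).obj ((pull g).obj F)) ≅
      (Rpush h q).obj ((pull e).obj ((pull g).obj F))))
    (hb0 : IsIso (baseChange0 g f h e w ((pull g).obj F))) :
    Inv h ((pull f).obj F) := by
  have h1 := pull_unit_baseChange0 (f := g) (g := f) (f' := h) (g' := e) w F
  have h2 : IsIso ((pullPushAdj h).unit.app ((pull f).obj F) ≫ (push h).map ((kap w).hom.app F)) := by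
    rw [← h1]
    infer_instance
  have h3 : IsIso ((pullPushAdj h).unit.app ((pull f).obj F)) :=
    IsIso.of_isIso_comp_right _ ((push h).map ((kap w).hom.app F))
  intro q
  refine Groth.Agent.Etrest.HpullAcyc.Hpull_bijective h ((pull f).obj F) h3 ?_ q
  intro q hq
  obtain ⟨e1⟩ := hb q hq
  have h4 : IsZero ((pull f).obj ((Rpush g q).obj ((pull g).obj F))) :=
    (pull f).map_isZero (hR q hq)
  exact (h4.of_iso e1.symm).of_iso ((Rpush h q).mapIso ((kap w).app F))

/-- The generic point of a normal integral scheme with separably closed function field. -/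
theorem inv_generic_of_bc [IsIntegral S] (hN : ∀ x : S, IsIntegrallyClosed (S.presheaf.stalk x))
    {K : Type u} [Field K] [IsSepClosed K] (g : Spec (CommRingCat.of K) ⟶ S) [IsPreimmersion g]
    (hg : Set.range g = {genericPoint S}) (f : V ⟶ S) (h : V' ⟶ V) (e : V' ⟶ Spec (CommRingCat.of K))
    (w : e ≫ g = h ≫ f) (M : Type) [AddCommGroup M]
    (hb : ∀ q : ℕ, 0 < q → Nonempty ((pull f).obj ((Rpush g q).obj ((pull g).obj (const S M))) ≅
      (Rpush h q).obj ((pull e).obj ((pull g).obj (const S M)))))
    (hb0 : IsIso (baseChange0 g f h e w ((pull g).obj (const S M)))) :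
    Inv h (const V M) := by
  have h1 := inv_of_bc f g h e w (const S M)
    (Groth.Agent.Etcore.LCPull.isIso_unit_const_generic hN g hg M)
    (fun q hq => Groth.Agent.Etcore.NormalAcyclic.isZero_Rpush_point g _ q hq) hb hb0
  exact h1.of_iso (EtCore.pullConst f M)

end Groth.Agent.Lefpen.H584.InvBC
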